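import Mathlib
import Groth.Agent.S3826

/-!
# Faithfully flat descent of local quasi-regularity
-/

set_option autoImplicit false
universe u
open MvPolynomial

namespace Groth.Agent.QRDescent

variable {R : Type u} [CommRing R]

/-- `x` generates `J` on `D(g)`. -/
def GenOn (J : Ideal R) {m : ℕ} (x : Fin m → R) (g : R) : Prop :=
  ∀ y ∈ J, ∃ N, g ^ N * y ∈ Ideal.span (Set.range x)

/-- The coefficient criterion for quasi-regularity of `x` on `D(g)`. -/
def Coef (J : Ideal R) {m : ℕ} (x : Fin m → R) (g : R) : Prop :=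
  ∀ (n : ℕ) (P : MvPolynomial (Fin m) R), P.IsHomogeneous n → eval x P ∈ J ^ (n + 1) →
    ∀ d, ∃ N, g ^ N * P.coeff d ∈ J

theorem map_eval_algebraMap {S : Type*} [CommRing S] [Algebra R S] {ι : Type*} (x : ι → R)
    (P : MvPolynomial ι R) :
    eval (fun i => algebraMap R S (x i)) (map (algebraMap R S) P) = algebraMap R S (eval x P) := by
  induction P using MvPolynomial.induction_on with
  | C r => simp
  | add p q hp hq => simp [hp, hq]
  | mul_X p i hp => simp [hp]

theorem span_away_eq (J : Ideal R) {m : ℕ} {x : Fin m → R} {g : R} (hx : ∀ i, x i ∈ J)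
    (hg : GenOn J x g) :
    Ideal.span (Set.range fun i => algebraMap R (Localization.Away g) (x i))
      = J.map (algebraMap R (Localization.Away g)) := by
  rw [show (Set.range fun i => algebraMap R (Localization.Away g) (x i))
      = algebraMap R (Localization.Away g) '' Set.range x by rw [← Set.range_comp]; rfl,
    ← Ideal.map_span]
  refine le_antisymm (Ideal.map_mono (Ideal.span_le.2 (by rintro _ ⟨i, rfl⟩; exact hx i)))
    (Ideal.map_le_iff_le_comap.2 fun y hy => ?_)
  obtain ⟨N, hN⟩ := hg y hy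
  exact Groth.Agent.S3826.mem_map_of_pow hN

/-- From the coefficient criterion to quasi-regularity in the localisation. -/
theorem isQuasiRegular_away (J : Ideal R) {m : ℕ} {x : Fin m → R} {g : R} (hx : ∀ i, x i ∈ J)
    (hg : GenOn J x g) (hc : Coef J x g) :
    CAlgX.IsQuasiRegular fun i => algebraMap R (Localization.Away g) (x i) := by
  classical
  intro n P hP he d
  rw [span_away_eq J hx hg] at he ⊢
  obtain ⟨b, hb⟩ := IsLocalization.exist_integer_multiples_of_finset (Submonoid.powers g)
    (P.support.image fun e => P.coeff e)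
  have hb' : ∀ e, ∃ r : R, algebraMap R (Localization.Away g) r
      = algebraMap R (Localization.Away g) b * P.coeff e := by
    intro e
    by_cases h : e ∈ P.support
    · obtain ⟨r, hr⟩ := hb _ (Finset.mem_image_of_mem _ h)
      exact ⟨r, by rw [hr, Algebra.smul_def]⟩
    · exact ⟨0, by simp [notMem_support_iff.1 h]⟩
  choose r hr using hb'
  let P0 : MvPolynomial (Fin m) R := ∑ e ∈ P.support, monomial e (r e)
  have hP0 : P0.IsHomogeneous n := IsHomogeneous.sum _ _ _ fun e he => by
    refine isHomogeneous_monomial _ ?_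
    have := hP (mem_support_iff.1 he)
    rw [Finsupp.degree_eq_weight_one]
    exact this
  have hmap : map (algebraMap R (Localization.Away g)) P0
      = C (algebraMap R (Localization.Away g) b) * P := by
    conv_rhs => rw [P.as_sum, Finset.mul_sum]
    simp [P0, hr, C_mul_monomial]
  have he0 : algebraMap R (Localization.Away g) (eval x P0) ∈
      (J ^ (n+1)).map (algebraMap R (Localization.Away g)) := by
    rw [← map_eval_algebraMap, hmap, map_mul, eval_C, Ideal.map_pow]
    exact Ideal.mul_mem_left _ _ he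
  obtain ⟨N, hN⟩ := Groth.Agent.S3826.exists_pow_mem_of_map he0
  obtain ⟨M, hM⟩ := hc n (C (g ^ N) * P0) (hP0.C_mul _) (by simpa using hN) d
  rw [coeff_C_mul, ← mul_assoc, ← pow_add] at hM
  have := Groth.Agent.S3826.mem_map_of_pow (g := g) hM
  rw [← coeff_map, hmap, coeff_C_mul] at this
  exact (Ideal.unit_mul_mem_iff_mem _ (IsLocalization.map_units _ b)).1 this

/-- From quasi-regularity in the localisation to the coefficient criterion. -/
theorem coef_of_isQuasiRegular (J : Ideal R) {m : ℕ} {x : Fin m → R} {g : R} (hx : ∀ i, x i ∈ J)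
    (hg : GenOn J x g)
    (hq : CAlgX.IsQuasiRegular fun i => algebraMap R (Localization.Away g) (x i)) :
    Coef J x g := by
  intro n P hP he d
  have h1 := hq n (map (algebraMap R _) P) (hP.map _) (by
    rw [map_eval_algebraMap, span_away_eq J hx hg, ← Ideal.map_pow]
    exact Ideal.mem_map_of_mem _ he) d
  rw [coeff_map, span_away_eq J hx hg] at h1
  exact Groth.Agent.S3826.exists_pow_mem_of_map h1

theorem GenOn.mul_right {J : Ideal R} {m : ℕ} {x : Fin m → R} {g : R} (h : GenOn J x g) (a : R) :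
    GenOn J x (g * a) := fun y hy => by
  obtain ⟨N, hN⟩ := h y hy
  exact ⟨N, by rw [mul_pow, mul_right_comm]; exact Ideal.mul_mem_right _ _ hN⟩

theorem Coef.mul_right {J : Ideal R} {m : ℕ} {x : Fin m → R} {g : R} (h : Coef J x g) (a : R) :
    Coef J x (g * a) := fun n P hP he d => by
  obtain ⟨N, hN⟩ := h n P hP he d
  exact ⟨N, by rw [mul_pow, mul_right_comm]; exact Ideal.mul_mem_right _ _ hN⟩

/-- Two generating families of equal length: the criterion passes from one to the other. -/
theorem Coef.transfer {J : Ideal R} {m : ℕ} {x x' : Fin m → R} {g : R}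
    (hx : ∀ i, x i ∈ J) (hx' : ∀ i, x' i ∈ J) (hg : GenOn J x g) (hg' : GenOn J x' g)
    (hc : Coef J x' g) : Coef J x g :=
  coef_of_isQuasiRegular J hx hg (Groth.Agent.QReg.isQuasiRegular_of_span_eq _ _
    (isQuasiRegular_away J hx' hg' hc) ((span_away_eq J hx hg).trans (span_away_eq J hx' hg').symm))

theorem Coef.rel {J : Ideal R} {m : ℕ} {x : Fin m → R} {g : R} (hc : Coef J x g) (c : Fin m → R)
    (h : ∑ i, c i * x i = 0) (i : Fin m) : ∃ N, g ^ N * c i ∈ J := by
  classical
  obtain ⟨N, hN⟩ := hc 1 (∑ k, C (c k) * X k)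
    (IsHomogeneous.sum _ _ _ fun k _ => isHomogeneous_C_mul_X _ _)
    (by simp [h]) (Finsupp.single i 1)
  refine ⟨N, ?_⟩
  simpa [coeff_sum, coeff_C_mul, coeff_X, Finsupp.single_left_inj] using hN

/-- No relation of `x` has a coefficient outside `P`. -/
def Irred (P : Ideal R) {m : ℕ} (x : Fin m → R) : Prop :=
  ∀ c : Fin m → R, ∑ i, c i * x i = 0 → ∀ i, c i ∈ P

theorem length_eq {J : Ideal R} (P : Ideal R) [P.IsPrime] (hJP : J ≤ P) {m r : ℕ}
    {x : Fin m → R} {x' : Fin r → R} (hx : ∀ i, x i ∈ J) (hx' : ∀ i, x' i ∈ J) {g : R} (hgP : g ∉ P)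
    (hg : GenOn J x g) (hg' : GenOn J x' g) (hirr : Irred P x) (hc : Coef J x' g) : m = r := by
  classical
  obtain ⟨N1, hN1⟩ := Groth.Agent.S3826.exists_pow_forall (c := x) (I := Ideal.span (Set.range x'))
    (g := g) (fun i => hg' _ (hx i))
  obtain ⟨N2, hN2⟩ := Groth.Agent.S3826.exists_pow_forall (c := x') (I := Ideal.span (Set.range x))
    (g := g) (fun i => hg _ (hx' i))
  simp only [Ideal.mem_span_range_iff_exists_fun] at hN1 hN2
  choose C1 hC1 using hN1
  choose C2 hC2 using hN2
  let C : Matrix (Fin m) (Fin r) R := Matrix.of C1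
  let D : Matrix (Fin r) (Fin m) R := Matrix.of C2
  let π : R →+* FractionRing (R ⧸ P) := (algebraMap (R ⧸ P) _).comp (Ideal.Quotient.mk P)
  have hπ : ∀ a, π a = 0 ↔ a ∈ P := fun a => by
    simp [π, Ideal.Quotient.eq_zero_iff_mem]
  have key1 : ∀ i j, (C * D) i j - (if i = j then g ^ (N1 + N2) else 0) ∈ P := by
    intro i
    refine hirr _ ?_
    have : ∑ j, (C * D) i j * x j = g ^ (N1 + N2) * x i := by
      simp only [Matrix.mul_apply, Finset.sum_mul, C, D, Matrix.of_apply]
      rw [Finset.sum_comm]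
      simp only [mul_assoc, ← Finset.mul_sum, hC2]
      simp only [mul_left_comm (C1 i _), ← Finset.mul_sum, hC1]
      ring
    simp [sub_mul, this]
  have key2 : ∀ i j, (D * C) i j - (if i = j then g ^ (N1 + N2) else 0) ∈ P := by
    intro i j
    have : ∑ j, (D * C) i j * x' j = g ^ (N1 + N2) * x' i := by
      simp only [Matrix.mul_apply, Finset.sum_mul, C, D, Matrix.of_apply]
      rw [Finset.sum_comm]
      simp only [mul_assoc, ← Finset.mul_sum, hC1]
      simp only [mul_left_comm (C2 i _), ← Finset.mul_sum, hC2]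
      ring
    obtain ⟨M, hM⟩ := hc.rel (fun j => (D * C) i j - (if i = j then g ^ (N1 + N2) else 0))
      (by simp [sub_mul, this]) j
    exact (‹P.IsPrime›.mem_or_mem (hJP hM)).resolve_left fun h => hgP (‹P.IsPrime›.mem_of_pow_mem _ h)
  have h1 : C.map π * D.map π = π (g ^ (N1 + N2)) • 1 := by
    rw [← Matrix.map_mul]
    ext i j
    have := (hπ _).2 (key1 i j)
    rw [map_sub, sub_eq_zero] at this
    simp only [Matrix.map_apply, this, Matrix.smul_apply, Matrix.one_apply]
    split <;> simp
  have h2 : D.map π * C.map π = π (g ^ (N1 + N2)) • 1 := by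
    rw [← Matrix.map_mul]
    ext i j
    have := (hπ _).2 (key2 i j)
    rw [map_sub, sub_eq_zero] at this
    simp only [Matrix.map_apply, this, Matrix.smul_apply, Matrix.one_apply]
    split <;> simp
  have hu : π (g ^ (N1 + N2)) ≠ 0 := by
    rw [Ne, hπ]
    exact fun h => hgP (‹P.IsPrime›.mem_of_pow_mem _ h)
  have e1 : Function.Injective (Matrix.mulVecLin (D.map π)) := by
    intro v w hvw
    have := congrArg (Matrix.mulVec (C.map π)) hvw
    simp only [Matrix.mulVecLin_apply, Matrix.mulVec_mulVec, h1, Matrix.smul_mulVec,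
      Matrix.one_mulVec] at this
    exact smul_right_injective _ hu this
  have e2 : Function.Injective (Matrix.mulVecLin (C.map π)) := by
    intro v w hvw
    have := congrArg (Matrix.mulVec (D.map π)) hvw
    simp only [Matrix.mulVecLin_apply, Matrix.mulVec_mulVec, h2, Matrix.smul_mulVec,
      Matrix.one_mulVec] at this
    exact smul_right_injective _ hu this
  have a := LinearMap.finrank_le_finrank_of_injective e1
  have b := LinearMap.finrank_le_finrank_of_injective e2
  simp at a b
  omega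

variable {B : Type u} [CommRing B] [Algebra R B]

theorem irred_of_flat [Module.Flat R B] (P : Ideal R) (Q : Ideal B)
    [Q.LiesOver P] {m : ℕ} {x : Fin m → R} (h : Irred P x) :
    Irred Q fun i => algebraMap R B (x i) := by
  intro c hc i
  obtain ⟨k, a, y, hy, ha⟩ := Module.Flat.isTrivialRelation_of_sum_smul_eq_zero (R := R) (M := B) (f := x) (x := c)
    (by simpa [Algebra.smul_def, mul_comm] using hc)
  rw [hy i]
  refine sum_mem fun j _ => ?_
  rw [Algebra.smul_def]
  refine Ideal.mul_mem_right _ _ ((Q.mem_of_liesOver P _).1 (h (fun i => a i j) ?_ i))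
  simpa [mul_comm] using ha j

theorem exists_mul_mem_of_flat [Module.Flat R B] (I P : Ideal R) (Q : Ideal B) [Q.IsPrime]
    [Q.LiesOver P] (y : R) (u : B) (hu : u ∉ Q)
    (h : u * algebraMap R B y ∈ I.map (algebraMap R B)) : ∃ s ∉ P, s * y ∈ I := by
  classical
  rw [Ideal.map] at h
  obtain ⟨c, hc⟩ := Finsupp.mem_span_range_iff_exists_finsupp.1
    (show u * algebraMap R B y ∈ Submodule.span B (Set.range fun i : I => algebraMap R B (i : R)) by
      convert h using 2
      rw [← Subtype.range_coe (s := (I : Set R)), ← Set.range_comp]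
      rfl)
  let f : Option c.support → R := fun o => o.elim y fun i => (i.1 : R)
  let z : Option c.support → B := fun o => o.elim u fun i => - c i.1
  obtain ⟨k, a, w, hw, ha⟩ := Module.Flat.isTrivialRelation_of_sum_smul_eq_zero (R := R) (M := B) (f := f) (x := z) (by
    rw [Fintype.sum_option]
    simp only [f, z, Option.elim_none, Option.elim_some, smul_neg, Finset.sum_neg_distrib]
    rw [Algebra.smul_def, mul_comm, ← hc, Finsupp.sum]
    simp only [Algebra.smul_def, smul_eq_mul]
    rw [Finset.sum_coe_sort c.support (fun i => algebraMap R B (i : R) * c i)]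
    simp [mul_comm])
  obtain ⟨j, hj⟩ : ∃ j, a none j ∉ P := by
    by_contra hne
    push_neg at hne
    refine hu ?_
    have : u = ∑ j, a none j • w j := hw none
    rw [this]
    exact sum_mem fun j _ => by
      rw [Algebra.smul_def]
      exact Ideal.mul_mem_right _ _ ((Q.mem_of_liesOver P _).1 (hne j))
  refine ⟨a none j, hj, ?_⟩
  have := ha j
  rw [Fintype.sum_option] at this
  simp only [f, Option.elim_none, Option.elim_some] at this
  rw [mul_comm, eq_neg_of_add_eq_zero_left this]
  exact neg_mem (sum_mem fun i _ => Ideal.mul_mem_right _ _ i.1.2)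

theorem fg_of_map_fg [Module.FaithfullyFlat R B] (I : Ideal R) (h : (I.map (algebraMap R B)).FG) :
    I.FG := by
  classical
  obtain ⟨t, hts, ht⟩ := Submodule.fg_span_iff_fg_span_finset_subset
    ((algebraMap R B) '' (I : Set R)) |>.1 h
  choose! f hf hft using hts
  refine ⟨t.image f, Ideal.map_injective_of_faithfullyFlat (A := R) (B := B) ?_⟩
  rw [Finset.coe_image]
  show Ideal.map (algebraMap R B) (Ideal.span _) = _
  rw [Ideal.map_span, ← Set.image_comp]
  simp only [Function.comp_def]
  rw [Set.image_congr (fun b hb => hft hb), Set.image_id']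
  exact ht.symm

theorem isLocallyQuasiRegular_of_faithfullyFlat (A B : Type u) [CommRing A] [CommRing B]
    [Algebra A B] [Module.FaithfullyFlat A B] (I : Ideal A)
    (h : PP16.IsLocallyQuasiRegular B (Ideal.map (algebraMap A B) I)) :
    PP16.IsLocallyQuasiRegular A I := by
  classical
  intro P _ hIP
  set J := I.map (algebraMap A B) with hJ
  obtain ⟨m0, y0, hy0⟩ := Submodule.fg_iff_exists_fin_generating_family.1
    (fg_of_map_fg I (Groth.Agent.S3826.fg_of_locally h).1)
  have hex : ∃ m, ∃ (x : Fin m → A) (g : A), g ∉ P ∧ (∀ i, x i ∈ I) ∧ GenOn I x g :=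
    ⟨m0, y0, 1, fun h => ‹P.IsPrime›.ne_top ((Ideal.eq_top_iff_one _).2 h),
      fun i => hy0 ▸ Submodule.subset_span ⟨i, rfl⟩,
      fun y hy => ⟨0, by rw [pow_zero, one_mul, Ideal.span, hy0]; exact hy⟩⟩
  obtain ⟨x, g1, hg1, hxI, hgen⟩ := Nat.find_spec hex
  generalize hm : Nat.find hex = m at x hxI hgen
  have hmin : ∀ k < m, ¬ ∃ (x : Fin k → A) (g : A), g ∉ P ∧ (∀ i, x i ∈ I) ∧ GenOn I x g :=
    fun k hk => Nat.find_min hex (hm.symm ▸ hk)
  have hirr : Irred P x := by
    intro c hc i
    by_contra hci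
    obtain ⟨m', rfl⟩ : ∃ m', m = m' + 1 := ⟨m - 1, by have := i.pos; omega⟩
    refine hmin m' (by omega) ⟨fun k => x (i.succAbove k), g1 * c i, fun h =>
      (‹P.IsPrime›.mem_or_mem h).elim hg1 hci, fun k => hxI _, fun y hy => ?_⟩
    obtain ⟨N, hN⟩ := hgen y hy
    refine ⟨N + 1, ?_⟩
    rw [Fin.sum_univ_succAbove _ i] at hc
    have hxi : c i * x i ∈ Ideal.span (Set.range fun k => x (i.succAbove k)) := by
      rw [eq_neg_of_add_eq_zero_left hc]
      exact neg_mem (sum_mem fun k _ => Ideal.mul_mem_left _ _ (Ideal.subset_span ⟨k, rfl⟩))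
    have hall : ∀ z ∈ Ideal.span (Set.range x),
        c i * z ∈ Ideal.span (Set.range fun k => x (i.succAbove k)) := by
      intro z hz
      induction hz using Submodule.span_induction with
      | mem w hw =>
        obtain ⟨k, rfl⟩ := hw
        obtain rfl | hk := eq_or_ne k i
        · exact hxi
        · obtain ⟨k', rfl⟩ := Fin.exists_succAbove_eq hk
          exact Ideal.mul_mem_left _ _ (Ideal.subset_span ⟨k', rfl⟩)
      | zero => simp
      | add a b _ _ ha hb => rw [mul_add]; exact add_mem ha hb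
      | smul a b _ hb => rw [smul_eq_mul, mul_left_comm]; exact Ideal.mul_mem_left _ _ hb
    rw [show (g1 * c i) ^ (N + 1) * y = g1 * c i ^ N * (c i * (g1 ^ N * y)) by ring]
    exact Ideal.mul_mem_left _ _ (hall _ hN)
  set xB : Fin m → B := fun i => algebraMap A B (x i)
  have hxB : ∀ i, xB i ∈ J := fun i => Ideal.mem_map_of_mem _ (hxI i)
  have hgenB : GenOn J xB (algebraMap A B g1) := by
    intro z hz
    induction hz using Submodule.span_induction with
    | mem w hw =>
      obtain ⟨y, hy, rfl⟩ := hw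
      obtain ⟨N, hN⟩ := hgen y hy
      refine ⟨N, ?_⟩
      have := Ideal.mem_map_of_mem (algebraMap A B) hN
      rwa [Ideal.map_span, ← Set.range_comp, map_mul, map_pow] at this
    | zero => exact ⟨0, by simp⟩
    | add a b _ _ ha hb =>
      obtain ⟨N, hN⟩ := ha
      obtain ⟨M, hM⟩ := hb
      refine ⟨N + M, ?_⟩
      rw [mul_add]
      refine add_mem ?_ ?_
      · rw [pow_add, mul_right_comm]; exact Ideal.mul_mem_right _ _ hN
      · rw [pow_add, mul_assoc]; exact Ideal.mul_mem_left _ _ hM
    | smul a b _ hb =>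
      obtain ⟨N, hN⟩ := hb
      exact ⟨N, by rw [smul_eq_mul, mul_left_comm]; exact Ideal.mul_mem_left _ _ hN⟩
  -- at every prime upstairs, either `x` is quasi-regular nearby, or a relation is visible
  have good : ∀ (Q : Ideal B) [Q.IsPrime], J ≤ Q → algebraMap A B g1 ∉ Q →
      Irred (Q.comap (algebraMap A B)) x → ∃ h ∉ Q, Coef J xB h := by
    intro Q _ hJQ hgQ hirrQ
    haveI : Q.LiesOver (Q.comap (algebraMap A B)) := ⟨rfl⟩
    obtain ⟨g', r, x', hg', hchart, hcoef⟩ := Groth.Agent.S3826.exists_chart h Q hJQ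
    let xf : Fin r → B := fun k => x' (ULift.up k)
    have hxf : ∀ k, xf k ∈ J := fun k => (x' _).2
    have hgf : GenOn J xf g' := fun z hz => by
      obtain ⟨N, hN⟩ := hchart.gen z hz
      refine ⟨N, ?_⟩
      rwa [show Set.range xf = Set.range fun a => (x' a : B) from
        (Equiv.ulift.symm.surjective.range_comp fun a => (x' a : B))]
    have hcf : Coef J xf g' := fun n P hP he d => by
      have := hcoef n (rename ULift.up P) hP.rename_isHomogeneous
        (by rw [eval_rename]; exact he) (d.mapDomain ULift.up)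
      rwa [coeff_rename_mapDomain _ ULift.up_injective] at this
    let G := g' * algebraMap A B g1
    have hG : G ∉ Q := fun hmem => (‹Q.IsPrime›.mem_or_mem hmem).elim hg' hgQ
    have hgG : GenOn J xB G := by
      simpa [G, mul_comm] using hgenB.mul_right g'
    obtain rfl : m = r := length_eq Q hJQ hxB hxf hG hgG (hgf.mul_right _)
      (irred_of_flat _ Q hirrQ) (hcf.mul_right _)
    exact ⟨G, hG, Coef.transfer hxB hxf hgG (hgf.mul_right _) (hcf.mul_right _)⟩
  let W : Set A := {w | ∃ c : Fin m → A, ∑ i, c i * x i = 0 ∧ ∃ i, c i = w}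
  let T : Set B := {h | Coef J xB h} ∪ algebraMap A B '' W ∪ J
  have hrad : algebraMap A B g1 ∈ (Ideal.span T).radical := by
    rw [Ideal.radical_eq_sInf, Submodule.mem_sInf]
    rintro Q ⟨hle, hQ⟩
    haveI : Ideal.IsPrime (α := B) Q := hQ
    change algebraMap A B g1 ∈ (Q : Ideal B)
    by_contra hgQ
    have hJQ : J ≤ Q := fun z hz => hle (Ideal.subset_span (Or.inr hz))
    by_cases hirrQ : Irred (Ideal.comap (algebraMap A B) Q) x
    · obtain ⟨h', hh', hc⟩ := good Q hJQ hgQ hirrQ
      exact hh' (hle (Ideal.subset_span (Or.inl (Or.inl hc))))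
    · simp only [Irred, not_forall] at hirrQ
      obtain ⟨c, hc, i, hi⟩ := hirrQ
      exact hi (Ideal.mem_comap.2 (hle (Ideal.subset_span
        (Or.inl (Or.inr ⟨c i, ⟨c, hc, i, rfl⟩, rfl⟩)))))
  obtain ⟨N0, hN0⟩ := hrad
  obtain ⟨T', hT', hN0'⟩ := Submodule.mem_span_finite_of_mem_span hN0
  -- relation coefficients are killed near `P`
  obtain ⟨Q0, hQ0p, hQ0o⟩ := P.exists_isPrime_liesOver_of_faithfullyFlat (B := B)
  haveI := hQ0p
  haveI := hQ0o
  have hJQ0 : J ≤ Q0 := Ideal.map_le_iff_le_comap.2 fun a ha => (Q0.mem_of_liesOver P a).1 (hIP ha)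
  obtain ⟨h0, hh0, hc0⟩ := good Q0 hJQ0 (fun hmem => hg1 ((Q0.mem_of_liesOver P _).2 hmem)) (by
    have : Q0.comap (algebraMap A B) = P := Ideal.ext fun a => (Q0.mem_of_liesOver P a).symm
    rw [this]; exact hirr)
  have hW : ∀ w ∈ W, ∃ s ∉ P, s * w ∈ I := by
    rintro w ⟨c, hc, i, rfl⟩
    obtain ⟨N, hN⟩ := hc0.rel (fun i => algebraMap A B (c i))
      (by simpa [xB] using congrArg (algebraMap A B) hc) i
    exact exists_mul_mem_of_flat I P Q0 _ _ (fun hmem => hh0 (‹Q0.IsPrime›.mem_of_pow_mem _ hmem)) hN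
  have hT'' : ∀ b ∈ T', ∃ s ∉ P, ∀ (Q : Ideal B) [Q.IsPrime], J ≤ Q → algebraMap A B s ∉ Q →
      b ∈ Q ∨ Coef J xB b := by
    intro b hb
    rcases hT' hb with (hb' | ⟨w, hw, rfl⟩) | hb'
    · exact ⟨1, fun h => ‹P.IsPrime›.ne_top ((Ideal.eq_top_iff_one _).2 h),
        fun Q _ _ _ => Or.inr hb'⟩
    · obtain ⟨s, hs, hsw⟩ := hW w hw
      refine ⟨s, hs, fun Q hQ hJQ hsQ => Or.inl ?_⟩
      have := hJQ (Ideal.mem_map_of_mem (algebraMap A B) hsw)
      rw [map_mul] at this
      exact (hQ.mem_or_mem this).resolve_left hsQ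
    · exact ⟨1, fun h => ‹P.IsPrime›.ne_top ((Ideal.eq_top_iff_one _).2 h),
        fun Q _ hJQ _ => Or.inl (hJQ hb')⟩
  choose! s hs hsQ using hT''
  let g := g1 * ∏ b ∈ T', s b
  have hgP : g ∉ P := fun hmem => by
    rcases ‹P.IsPrime›.mem_or_mem hmem with h1 | h1
    · exact hg1 h1
    · obtain ⟨b, hb, hb'⟩ := (Ideal.IsPrime.prod_mem_iff).1 h1
      exact hs b hb hb'
  have hcoefA : Coef I x g := by
    intro n F hF he d
    by_contra hne
    push_neg at hne
    obtain ⟨P', hP'p, hcol, hdis⟩ := Ideal.exists_le_prime_disjoint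
      (I.colon {F.coeff d}) (Submonoid.powers g) (by
        rw [Set.disjoint_left]
        rintro a ha ⟨N, rfl⟩
        exact hne N (Submodule.mem_colon_singleton.1 ha))
    haveI := hP'p
    obtain ⟨Q, hQp, hQo⟩ := P'.exists_isPrime_liesOver_of_faithfullyFlat (B := B)
    haveI := hQp
    haveI := hQo
    have hgQ : algebraMap A B g ∉ Q := fun hmem =>
      Set.disjoint_left.1 hdis ((Q.mem_of_liesOver P' _).2 hmem) ⟨1, pow_one g⟩
    have hJQ : J ≤ Q := Ideal.map_le_iff_le_comap.2 fun a ha => (Q.mem_of_liesOver P' a).1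
      (hcol (Submodule.mem_colon_singleton.2 (Ideal.mul_mem_right _ _ ha)))
    rw [map_mul, map_prod] at hgQ
    have hg1Q : algebraMap A B g1 ∉ Q := fun hm => hgQ (Ideal.mul_mem_right _ _ hm)
    obtain ⟨b, hb, hbQ⟩ : ∃ b ∈ T', b ∉ Q := by
      by_contra hne'
      push_neg at hne'
      exact hg1Q (hQp.mem_of_pow_mem _ (Ideal.span_le.2 hne' hN0'))
    have hsb : algebraMap A B (s b) ∉ Q := fun hm =>
      hgQ (Ideal.mul_mem_left _ _ (Ideal.prod_mem _ hb hm))
    obtain ⟨M, hM⟩ := ((hsQ b hb Q hJQ hsb).resolve_left hbQ) n (map (algebraMap A B) F) (hF.map _)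
      (by rw [map_eval_algebraMap, hJ, ← Ideal.map_pow]; exact Ideal.mem_map_of_mem _ he) d
    rw [coeff_map] at hM
    obtain ⟨s', hs', hs'I⟩ := exists_mul_mem_of_flat I P' Q _ _
      (fun hm => hbQ (hQp.mem_of_pow_mem _ hm)) hM
    exact hs' (hcol (Submodule.mem_colon_singleton.2 hs'I))
  have hgenA : GenOn I x g := hgen.mul_right _
  exact ⟨g, hgP, m, fun i => algebraMap A (Localization.Away g) (x i),
    isQuasiRegular_away I hxI hgenA hcoefA, span_away_eq I hxI hgenA⟩

end Groth.Agent.QRDescent
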